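import Groth.Agent.Lib.Nis27.Generators
import Groth.Agent.Lib.DBaseChange.Descent
import Groth.Agent.Lib.DBaseChange.TensorValue
import Groth.Prelude.Def_W4c5algebraiztannakaNis
import Mathlib.AlgebraicGeometry.Morphisms.Flat
import Mathlib.AlgebraicGeometry.Morphisms.Etale
import Mathlib.RingTheory.Flat.FaithfullyFlat.Basic

/-!
# Generators, Nisnevich covers and cohomology
-/

set_option autoImplicit false
universe u

open CategoryTheory CategoryTheory.Limits AlgebraicGeometry TensorProduct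

attribute [local instance] HasDerivedCategory.standard

noncomputable section

namespace Groth.Agent.GlobSize27

variable {A : Type u} [CommRing A]

/-- `M` is generated by `n` elements. -/
def Gen (A : Type u) [CommRing A] (n : ℕ) (M : Type u) [AddCommGroup M] [Module A M] : Prop :=
  ∃ g : (Fin n → A) →ₗ[A] M, Function.Surjective g

section Gen

variable {M N : Type u} [AddCommGroup M] [Module A M] [AddCommGroup N] [Module A N] {n m : ℕ}

theorem Gen.of_surjective (h : Gen A n M) (f : M →ₗ[A] N) (hf : Function.Surjective f) : Gen A n N := by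
  obtain ⟨g, hg⟩ := h
  exact ⟨f ∘ₗ g, hf.comp hg⟩

theorem Gen.mono (h : Gen A n M) (hnm : n ≤ m) : Gen A m M := by
  obtain ⟨g, hg⟩ := h
  refine ⟨g ∘ₗ LinearMap.funLeft A A (Fin.castLE hnm), hg.comp ?_⟩
  exact LinearMap.funLeft_surjective_of_injective A A _ (Fin.castLE_injective hnm)

theorem Gen.prod (h : Gen A n M) (h' : Gen A m N) : Gen A (n + m) (M × N) := by
  obtain ⟨g, hg⟩ := h
  obtain ⟨g', hg'⟩ := h'
  refine ⟨g.prodMap g' ∘ₗ (LinearMap.funLeft A A (Fin.castAdd m)).prod (LinearMap.funLeft A A (Fin.natAdd n)),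
    (hg.prodMap hg').comp fun p => ⟨Fin.append p.1 p.2, ?_⟩⟩
  refine Prod.ext (funext fun i => ?_) (funext fun i => ?_)
  · exact Fin.append_left p.1 p.2 i
  · exact Fin.append_right p.1 p.2 i

theorem gen_of_subsingleton [Subsingleton M] (n : ℕ) : Gen A n M :=
  ⟨0, fun _ => ⟨0, Subsingleton.elim _ _⟩⟩

theorem gen_iff_span : Gen A n M ↔ ∃ s : Fin n → M, Submodule.span A (Set.range s) = ⊤ := by
  constructor
  · rintro ⟨g, hg⟩
    refine ⟨fun i => g (Pi.basisFun A (Fin n) i), ?_⟩
    rw [show Set.range (fun i => g (Pi.basisFun A (Fin n) i)) = g '' Set.range (Pi.basisFun A (Fin n)) from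
      (Set.range_comp g _), ← Submodule.map_span, (Pi.basisFun A (Fin n)).span_eq, Submodule.map_top,
      LinearMap.range_eq_top.2 hg]
  · rintro ⟨s, hs⟩
    refine ⟨Fintype.linearCombination A s, fun x => ?_⟩
    obtain ⟨c, hc⟩ := (Submodule.mem_span_range_iff_exists_fun A).1 (hs.ge (show x ∈ (⊤ : Submodule A M) from trivial))
    exact ⟨c, by simpa [Fintype.linearCombination_apply] using hc⟩

theorem gen_ext {B : Type u} [CommRing B] (φ : A →+* B) (P : ModuleCat.{u} A) (h : Gen A n P) :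
    Gen B n ((ModuleCat.extendScalars.{u, u, u} φ).obj P) := by
  letI := φ.toAlgebra
  show Gen B n (TensorProduct A B P)
  obtain ⟨s, hs⟩ := gen_iff_span.1 h
  refine gen_iff_span.2 ⟨fun i => (1 : B) ⊗ₜ[A] s i, ?_⟩
  rw [eq_top_iff]
  intro x _
  induction x using TensorProduct.induction_on with
  | zero => exact zero_mem _
  | tmul b p =>
    obtain ⟨c, rfl⟩ := (Submodule.mem_span_range_iff_exists_fun A).1 (hs.ge (show p ∈ (⊤ : Submodule A P) from trivial))
    rw [TensorProduct.tmul_sum]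
    refine sum_mem fun i _ => ?_
    rw [TensorProduct.tmul_smul, TensorProduct.smul_tmul', show (c i • b) ⊗ₜ[A] s i = (c i • b) • ((1 : B) ⊗ₜ[A] s i) by
      rw [TensorProduct.smul_tmul', smul_eq_mul, mul_one]]
    exact Submodule.smul_mem _ _ (Submodule.subset_span ⟨i, rfl⟩)
  | add x y hx hy => exact add_mem (hx trivial) (hy trivial)

end Gen

/-- The top cohomology of a complex of projectives is generated like the term. -/
theorem gen_top_homology {P : DRing.Cx A} (t b : ℤ) [P.IsStrictlyLE b] (hP : DRing.TermwiseFiniteProjective P)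
    (hex : ∀ i, t < i → Subsingleton (P.homology i)) {n : ℕ} (hn : Gen A n (P.X t)) :
    Gen A n (P.homology t) ∧ Module.Projective A ↥(LinearMap.ker (P.d t (t + 1)).hom) := by
  have hcy := DMod.finite_projective_cycles t b hP hex
  refine ⟨?_, (hcy t le_rfl).2⟩
  have hr : LinearMap.range (P.d t (t + 1)).hom = LinearMap.ker (P.d (t + 1) (t + 1 + 1)).hom := by
    refine le_antisymm ?_ ?_
    · rintro _ ⟨x, rfl⟩
      exact congrArg (fun f : P.X t ⟶ P.X (t + 1 + 1) => f x) (P.d_comp_d t (t + 1) (t + 1 + 1))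
    · intro x hx
      exact (DMod.subsingleton_homology_iff P (i := t) (k := t + 1 + 1) (by simp) (by simp)).1
        (hex (t + 1) (by omega)) x hx
  haveI := (hcy (t + 1) (by omega)).2
  let g : P.X t →ₗ[A] ↥(LinearMap.ker (P.d (t + 1) (t + 1 + 1)).hom) :=
    (P.d t (t + 1)).hom.codRestrict _ fun x => hr ▸ LinearMap.mem_range_self _ x
  have hg : Function.Surjective g := by
    rintro ⟨y, hy⟩
    obtain ⟨x, hx⟩ := hr.ge hy
    exact ⟨x, Subtype.ext hx⟩
  obtain ⟨σ, hσ⟩ := Module.projective_lifting_property g LinearMap.id hg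
  have hσ' : ∀ x, (P.d t (t + 1)) (σ x) = (x : P.X (t + 1)) := fun x => congrArg Subtype.val (LinearMap.congr_fun hσ x)
  obtain ⟨s, hs⟩ := gen_iff_span.1 hn
  have hcyc : ∀ i, (P.d t (t + 1)) (s i - σ (g (s i))) = 0 := fun i => by
    rw [map_sub, hσ']; exact sub_self _
  choose z hz using fun i => DMod.exists_cycle (K := P) (j := t) (k := t + 1) (by simp) _ (hcyc i)
  refine gen_iff_span.2 ⟨fun i => HomologicalComplex.homologyπ P t (z i), eq_top_iff.2 fun y _ => ?_⟩
  obtain ⟨w, rfl⟩ := DMod.homologyπ_surjective P t y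
  obtain ⟨c, hc⟩ := (Submodule.mem_span_range_iff_exists_fun A).1
    (hs.ge (show P.iCycles t w ∈ (⊤ : Submodule A (P.X t)) from trivial))
  have hw : w = ∑ i, c i • z i := by
    apply DMod.iCycles_injective P t
    simp only [map_sum, map_smul, hz, smul_sub, Finset.sum_sub_distrib, hc]
    have hgw : g (P.iCycles t w) = 0 := Subtype.ext (DMod.d_iCycles (K := P) t (t + 1) w)
    have : ∑ i, c i • σ (g (s i)) = σ (g (∑ i, c i • s i)) := by simp only [map_sum, map_smul]
    rw [this, hc, hgw, map_zero, sub_zero]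
  rw [hw, map_sum]
  refine sum_mem fun i _ => ?_
  rw [map_smul]
  exact Submodule.smul_mem _ _ (Submodule.subset_span ⟨i, rfl⟩)

theorem exists_freeMod_epi {B : CommRingCat.{u}} (K : ModuleCat.{u} B) {n : ℕ} (h : Gen B n K) :
    ∃ φ : FlatMod.freeMod (Spec B) n ⟶ tilde K, Epi φ := by
  haveI : (tilde.functor B).IsLeftAdjoint := ⟨_, ⟨tilde.adjunction (R := B)⟩⟩
  haveI : (tilde.functor B).PreservesEpimorphisms := Functor.preservesEpimorphisms_of_adjunction (tilde.adjunction (R := B))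
  let e : (tilde.functor B).obj (∐ fun _ : Fin n => ModuleCat.of B B) ≅ FlatMod.freeMod (Spec B) n :=
    PreservesCoproduct.iso (tilde.functor B) _ ≪≫ Sigma.mapIso fun _ => tildeSelf (R := B)
  obtain ⟨s, hs⟩ := gen_iff_span.1 h
  let ψ : (∐ fun _ : Fin n => ModuleCat.of B B) ⟶ K :=
    Sigma.desc fun i => ModuleCat.ofHom (LinearMap.toSpanSingleton B K (s i))
  haveI : Epi ψ := by
    rw [ModuleCat.epi_iff_range_eq_top, ← top_le_iff, ← hs, Submodule.span_le]
    rintro _ ⟨i, rfl⟩
    refine ⟨Sigma.ι (fun _ : Fin n => ModuleCat.of B B) i (1 : B), ?_⟩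
    show (Sigma.ι (fun _ : Fin n => ModuleCat.of B B) i ≫ ψ) (1 : B) = s i
    rw [show Sigma.ι (fun _ : Fin n => ModuleCat.of B B) i ≫ ψ = _ from Sigma.ι_desc _ i]
    exact one_smul B (s i)
  exact ⟨e.inv ≫ (tilde.functor B).map ψ, epi_comp' (inferInstance : Epi e.inv) ((tilde.functor B).map_epi ψ)⟩

theorem gen_of_cover {R B : CommRingCat.{u}} (ψ : R ⟶ B) {m : ℕ}
    (h : W4c5algebraiztannaka.IsNisCoverLen (Spec.map ψ) m) (H : ModuleCat.{u} R) [Module.Finite R H] {n : ℕ}
    (hn : Gen B n ((ModuleCat.extendScalars ψ.hom).obj H)) : Gen R (n * m) H := by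
  obtain ⟨Z, h0, h1, -, hZ, hs⟩ := h.flag
  refine gen_iff_span.2 (Nis27.exists_generators_of_flag (N := n) H (U := fun _ => Spec B)
    (fun _ => Spec.map ψ) (fun _ => ?_) Z h0 h1 (fun k => (hZ k).1) fun k => hs k)
  obtain ⟨φ, hφ⟩ := exists_freeMod_epi _ hn
  exact ⟨φ ≫ (M1.tildePullbackObjIso ψ H).inv, epi_comp' hφ (inferInstance : Epi _)⟩

theorem faithfullyFlat_of_cover {R B : CommRingCat.{u}} (ψ : R ⟶ B) {m : ℕ}
    (h : W4c5algebraiztannaka.IsNisCoverLen (Spec.map ψ) m) : ψ.hom.FaithfullyFlat := by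
  haveI := h.etale
  refine (flat_and_surjective_SpecMap_iff ψ).1 ⟨inferInstance, ⟨fun p => ?_⟩⟩
  obtain ⟨Z, h0, h1, -, -, hs⟩ := h.flag
  by_contra hne
  have key : ∀ k : Fin (m + 1), p ∉ Z k := by
    intro k
    induction k using Fin.induction with
    | zero => rw [h0]; exact Set.notMem_empty p
    | succ k ih =>
      intro hp
      obtain ⟨T, g, s, -, hr, hsg⟩ := hs k
      obtain ⟨t, ht⟩ := hr.ge ⟨hp, ih⟩
      exact hne ⟨s t, by rw [← ht, ← hsg]; rfl⟩
  exact key (Fin.last m) (h1 ▸ trivial)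

end Groth.Agent.GlobSize27
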