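import Groth.Agent.Lib.GlobSize27.Algebra
import Groth.Agent.Lib.DBaseChange.ExtFlat
import Groth.Agent.Lib.DMod.Amplitude
import Mathlib.Algebra.Homology.DerivedCategory.FullyFaithful

/-!
# Globally bounded size of perfect complexes
-/

set_option autoImplicit false
universe u

open CategoryTheory CategoryTheory.Limits CategoryTheory.Pretriangulated AlgebraicGeometry TensorProduct
open W4c5algebraiztannaka

attribute [local instance] HasDerivedCategory.standard

noncomputable section

namespace Groth.Agent.GlobSize27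

variable {A : Type u} [CommRing A]

/-- Projective terms with boundedly many generators in a range of degrees. -/
def Tm (P : DRing.Cx A) (c d : ℤ) (n : ℕ) : Prop :=
  DRing.VanishesOutside P c d ∧ ∀ i, Module.Projective A (P.X i) ∧ Gen A n (P.X i)

theorem Tm.finiteProjective {P : DRing.Cx A} {c d : ℤ} {n : ℕ} (h : Tm P c d n) :
    DRing.TermwiseFiniteProjective P := fun i => by
  obtain ⟨hp, g, hg⟩ := h.2 i
  exact ⟨Module.Finite.of_surjective g hg, hp⟩

theorem Tm.mono {P : DRing.Cx A} {c d c' d' : ℤ} {n n' : ℕ} (h : Tm P c d n) (hc : c' ≤ c) (hd : d ≤ d')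
    (hn : n ≤ n') : Tm P c' d' n' :=
  ⟨fun i hi => h.1 i (by omega), fun i => ⟨(h.2 i).1, (h.2 i).2.mono hn⟩⟩

theorem Tm.kproj {P : DRing.Cx A} {c d : ℤ} {n : ℕ} (h : Tm P c d n) : P.IsKProjective :=
  haveI := ((DMod.vanishesOutside_iff P c d).1 h.1).2
  DMod.isKProjective d fun i => (h.2 i).1

theorem Tm.cone {F G : DRing.Cx A} (f : F ⟶ G) {a b a' b' : ℤ} {n n' : ℕ} (hF : Tm F a b n) (hG : Tm G a' b' n')
    (c d : ℤ) (h₁ : c ≤ a - 1) (h₂ : c ≤ a') (h₃ : b - 1 ≤ d) (h₄ : b' ≤ d) :
    Tm (CochainComplex.mappingCone f) c d (n + n') :=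
  ⟨DMod.cone_vanishesOutside f hF.1 hG.1 c d h₁ h₂ h₃ h₄,
    fun i => ⟨DMod.cone_mem DMod.modClass_projective f (fun j => (hF.2 j).1) (fun j => (hG.2 j).1) i,
      ((hF.2 (i + 1)).2.prod (hG.2 i).2).of_surjective (DMod.coneXEquiv f i).symm.toLinearMap
        (DMod.coneXEquiv f i).symm.surjective⟩⟩

/-- A free module in one degree. -/
abbrev freeSingle (A : Type u) [CommRing A] (t : ℤ) (n : ℕ) : DRing.Cx A :=
  (HomologicalComplex.single (ModuleCat.{u} A) (ComplexShape.up ℤ) t).obj (ModuleCat.of A (Fin n → A))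

theorem tm_freeSingle (t : ℤ) (n : ℕ) : Tm (freeSingle A t n) t t n := by
  refine ⟨fun i hi => HomologicalComplex.isZero_single_obj_X _ t _ i (by omega), fun i => ?_⟩
  by_cases hi : i = t
  · subst hi
    let e := (HomologicalComplex.singleObjXSelf (ComplexShape.up ℤ) i (ModuleCat.of A (Fin n → A))).toLinearEquiv
    exact ⟨Module.Projective.of_equiv e.symm, e.symm.toLinearMap, e.symm.surjective⟩
  · have := ModuleCat.subsingleton_of_isZero
      (HomologicalComplex.isZero_single_obj_X (ComplexShape.up ℤ) t (ModuleCat.of A (Fin n → A)) i hi)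
    exact ⟨DMod.modClass_projective.subsingleton _, gen_of_subsingleton n⟩

theorem tm_ext {B : Type u} [CommRing B] (φ : A →+* B) {P : DRing.Cx A} {c d : ℤ} {n : ℕ} (h : Tm P c d n) :
    Tm ((bcCx φ).obj P) c d n :=
  ⟨fun i hi => Functor.map_isZero (ModuleCat.extendScalars.{u, u, u} φ) (h.1 i hi),
    fun i => ⟨(DBaseChange.termwiseFiniteProjective_ext φ h.finiteProjective i).2, gen_ext φ _ (h.2 i).2⟩⟩

/-- Surjecting onto cohomology by a free module. -/
theorem exists_free_hom (K : DRing.Cx A) (b : ℤ) {n : ℕ} (hn : Gen A n (K.homology b)) :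
    ∃ f : freeSingle A b n ⟶ K, Function.Surjective (HomologicalComplex.homologyMap f b) := by
  obtain ⟨s, hs⟩ := gen_iff_span.1 hn
  choose z hz using fun t => DMod.homologyπ_surjective K b (s t)
  let g : (Fin n → A) →ₗ[A] K.cycles b := (Pi.basisFun A (Fin n)).constr A z
  let ψ : ModuleCat.of A (Fin n → A) ⟶ K.X b := ModuleCat.ofHom g ≫ K.iCycles b
  have hψ : ∀ k, (ComplexShape.up ℤ).Rel b k → ψ ≫ K.d b k = 0 := fun k _ => by simp [ψ]
  let f := HomologicalComplex.mkHomFromSingle ψ hψ
  refine ⟨f, fun y => ?_⟩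
  have hy : y ∈ Submodule.span A (Set.range s) := hs ▸ Submodule.mem_top
  obtain ⟨c, rfl⟩ := (Submodule.mem_span_range_iff_exists_fun A).1 hy
  let x : (freeSingle A b n).X b :=
    (HomologicalComplex.singleObjXSelf (ComplexShape.up ℤ) b (ModuleCat.of A (Fin n → A))).inv c
  obtain ⟨w, hw⟩ := DMod.exists_cycle (K := freeSingle A b n) (j := b) (k := b + 1) (by simp) x (by simp)
  refine ⟨(HomologicalComplex.homologyπ (freeSingle A b n) b).hom w, ?_⟩
  rw [DMod.homologyMap_π]
  have : HomologicalComplex.cyclesMap f b w = g c := by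
    apply DMod.iCycles_injective K b
    rw [DMod.iCycles_cyclesMap, hw]
    simp [x, f, ψ, HomologicalComplex.mkHomFromSingle_f]
  rw [this]
  simp [g, Module.Basis.constr_apply_fintype, hz]

/-- The object is represented with bounded terms. -/
def Glob (K : Dual.D A) (n : ℕ) : Prop := ∃ P : DRing.Cx A, Tm P (-(n : ℤ)) n n ∧ Nonempty (DRing.toD P ≅ K)

theorem glob_of_cone {C : DRing.Cx A} {n M : ℕ} {t : ℤ} (ht1 : -(M : ℤ) ≤ t) (ht2 : t ≤ M)
    (s : freeSingle A t n ⟶ C) (h : Glob (DRing.toD (CochainComplex.mappingCone s)) M) :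
    Glob (DRing.toD C) (M + n) := by
  obtain ⟨Q, hQ, ⟨eQ⟩⟩ := h
  let Q' := (shiftFunctor (DRing.Cx A) (-1 : ℤ)).obj Q
  have hQ' : Tm Q' (-(M : ℤ) + 1) (M + 1) M :=
    ⟨DMod.vanishesOutside_shift hQ.1 (-1) _ _ (by omega) (by omega), fun i => hQ.2 (i + -1)⟩
  haveI := hQ'.kproj
  obtain ⟨g, h, hT⟩ := DMod.exists_cone_triangle s
  let T := (Triangle.mk (DerivedCategory.Q.map s) g h).invRotate
  have hT' : T ∈ distTriang _ := inv_rot_of_distTriang _ hT
  let e : DRing.toD Q' ≅ T.obj₁ := DMod.toDShiftIso Q (-1) ≪≫ (shiftFunctor _ (-1 : ℤ)).mapIso eQ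
  obtain ⟨w, hw⟩ := DMod.exists_map_eq (e.hom ≫ T.mor₁ : DRing.toD Q' ⟶ DRing.toD (freeSingle A t n))
  obtain ⟨g', h', hT''⟩ := DMod.exists_cone_triangle w
  let eT := isoTriangleOfIso₁₂ (Triangle.mk (DerivedCategory.Q.map w) g' h') T hT'' hT' e (Iso.refl _)
    ((Category.comp_id _).trans hw)
  exact ⟨_, Tm.cone w hQ' ((tm_freeSingle t n).mono le_rfl le_rfl le_rfl) _ _ (by push_cast; omega)
    (by push_cast; omega) (by push_cast; omega) (by push_cast; omega),
    ⟨Triangle.π₃.mapIso eT⟩⟩

section Induction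

variable {B : Type u} [CommRing B] (φ : A →+* B)

theorem subsingleton_homology_of_iso (hφ : φ.FaithfullyFlat) {C : DRing.Cx A} {P : DRing.Cx B}
    (e : DRing.toD P ≅ DRing.toD ((bcCx φ).obj C)) {i : ℤ} (h : Subsingleton (Dual.HD B (DRing.toD P) i)) :
    Subsingleton (C.homology i) := by
  refine (DBaseChange.jointlyFF_of_faithfullyFlat φ hφ).subsingleton _ fun _ => ?_
  have h1 : Subsingleton (Dual.HD B (DRing.toD ((bcCx φ).obj C)) i) :=
    ((DMod.HH i).mapIso e).toLinearEquiv.symm.toEquiv.subsingleton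
  exact ((DBaseChange.hdEquiv ((bcCx φ).obj C) i ≪≫ DBaseChange.homologyExtIso φ hφ.flat C i).toLinearEquiv.symm.toEquiv).subsingleton

theorem gen_ext_homology (hφ : φ.FaithfullyFlat) {C : DRing.Cx A} {P : DRing.Cx B}
    (e : DRing.toD P ≅ DRing.toD ((bcCx φ).obj C)) {c d : ℤ} {M : ℕ} (hP : Tm P c d M) (t : ℤ)
    (hle : (DRing.toD C).IsLE t) :
    Gen B M ((ModuleCat.extendScalars.{u, u, u} φ).obj (C.homology t)) ∧
      Module.Projective B ↥(LinearMap.ker (P.d t (t + 1)).hom) := by
  haveI := hle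
  haveI := ((DMod.vanishesOutside_iff P c d).1 hP.1).2
  haveI : (DRing.toD ((bcCx φ).obj C)).IsLE t := DBaseChange.isLE_ext_of_flat φ hφ.flat C t
  haveI : (DRing.toD P).IsLE t := (DMod.tS B).isLE_of_iso e.symm t
  have hex : ∀ i, t < i → Subsingleton (P.homology i) := fun i hi =>
    (DMod.subsingleton_HD_toD_iff P i).1 ((DMod.isLE_iff _ t).1 inferInstance i hi)
  obtain ⟨h1, h2⟩ := gen_top_homology t d hP.finiteProjective hex (hP.2 t).2
  let i : P.homology t ≅ (ModuleCat.extendScalars.{u, u, u} φ).obj (C.homology t) :=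
    (DBaseChange.hdEquiv P t).symm ≪≫ (DMod.HH t).mapIso e ≪≫
      (DBaseChange.hdEquiv ((bcCx φ).obj C) t ≪≫ DBaseChange.homologyExtIso φ hφ.flat C t)
  exact ⟨h1.of_surjective i.toLinearEquiv.toLinearMap i.toLinearEquiv.surjective, h2⟩

theorem base_case (hφ : φ.FaithfullyFlat) {N : ℕ} (hcov : IsNisCoverLen (Spec.map (CommRingCat.ofHom φ)) N)
    {C : DRing.Cx A} {a b : ℤ} (hC : DRing.VanishesOutside C a b) (hCp : DRing.TermwiseFiniteProjective C)
    {P : DRing.Cx B} {d : ℤ} {M : ℕ} (hP : Tm P (-((N : ℤ) + 1)) d M)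
    (e : DRing.toD P ≅ DRing.toD ((bcCx φ).obj C)) (hle : (DRing.toD C).IsLE (-((N : ℤ) + 1))) :
    Glob (DRing.toD C) (max (N + 1) (M * N)) := by
  set L : ℤ := -((N : ℤ) + 1)
  haveI := hle
  haveI := ((DMod.vanishesOutside_iff C a b).1 hC).2
  haveI := ((DMod.vanishesOutside_iff P L d).1 hP.1).1
  haveI : (DRing.toD C).IsGE L := (DMod.isGE_iff _ L).2 fun i hi => by
    rw [DMod.subsingleton_HD_toD_iff]
    refine subsingleton_homology_of_iso φ hφ e ((DMod.isGE_iff _ L).1 (DMod.isGE_toD hP.1) i hi)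
  have hex : ∀ i, L < i → Subsingleton (C.homology i) := fun i hi =>
    (DMod.subsingleton_HD_toD_iff C i).1 ((DMod.isLE_iff _ L).1 inferInstance i hi)
  haveI := (DMod.finite_projective_cycles L b hCp hex L le_rfl).1
  haveI := (DMod.finite_projective_cycles L b hCp hex L le_rfl).2
  haveI : Module.Finite A (C.homology L) := DMod.finite_homology_of_cycles rfl
  haveI : Module.FinitePresentation A (C.homology L) := by
    let T := C.sc' (L - 1) L (L + 1)
    haveI : Module.Finite A ↥(LinearMap.ker T.g.hom) :=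
      inferInstanceAs (Module.Finite A ↥(LinearMap.ker (C.d L (L + 1)).hom))
    haveI : Module.Projective A ↥(LinearMap.ker T.g.hom) :=
      inferInstanceAs (Module.Projective A ↥(LinearMap.ker (C.d L (L + 1)).hom))
    haveI : Module.FinitePresentation A ↥(LinearMap.ker T.g.hom) := Module.finitePresentation_of_projective A _
    haveI : Module.Finite A T.X₁ := (hCp (L - 1)).1
    have h0 : Module.FinitePresentation A (_ ⧸ LinearMap.range T.moduleCatToCycles) := by
      refine Module.finitePresentation_of_surjective (LinearMap.range T.moduleCatToCycles).mkQ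
        (Submodule.mkQ_surjective _) ?_
      rw [Submodule.ker_mkQ]
      exact LinearMap.range_eq_map T.moduleCatToCycles ▸ Module.Finite.fg_top.map _
    haveI : Module.FinitePresentation A T.moduleCatLeftHomologyData.H := h0
    exact Module.FinitePresentation.of_equiv
      (ShortComplex.homologyMapIso (C.isoSc' (L - 1) L (L + 1) (by simp) (by simp)) ≪≫
        T.moduleCatHomologyIso).toLinearEquiv.symm
  obtain ⟨hgen, hproj⟩ := gen_ext_homology φ hφ e hP L hle
  have hgenA : Gen A (M * N) (C.homology L) :=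
    gen_of_cover (R := CommRingCat.of A) (B := CommRingCat.of B) (CommRingCat.ofHom φ) hcov (C.homology L) hgen
  have hflat : Module.Flat A (C.homology L) := by
    have hbot : Subsingleton (P.X (L - 1)) := ModuleCat.subsingleton_of_isZero (hP.1 (L - 1) (by omega))
    let π : ↥(LinearMap.ker (P.d L (L + 1)).hom) → P.homology L := fun x =>
      HomologicalComplex.homologyπ P L (DMod.exists_cycle (K := P) (j := L) (k := L + 1) (by simp) x.1 x.2).choose
    have hπ : ∀ x : ↥(LinearMap.ker (P.d L (L + 1)).hom), P.iCycles L (DMod.exists_cycle (K := P) (j := L) (k := L + 1) (by simp) x.1 x.2).choose = x.1 :=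
      fun x => (DMod.exists_cycle (K := P) (j := L) (k := L + 1) (by simp) x.1 x.2).choose_spec
    let cyc : P.cycles L →ₗ[B] ↥(LinearMap.ker (P.d L (L + 1)).hom) :=
      (P.iCycles L).hom.codRestrict _ fun z => DMod.d_iCycles (K := P) L (L + 1) z
    have hcyc : Function.Bijective cyc := ⟨fun x y h => DMod.iCycles_injective P L (congrArg Subtype.val h),
      fun x => ⟨_, Subtype.ext (hπ x)⟩⟩
    have hhom : Function.Bijective (HomologicalComplex.homologyπ P L).hom := by
      refine ⟨(injective_iff_map_eq_zero _).2 fun z hz => ?_, DMod.homologyπ_surjective P L⟩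
      obtain ⟨x, hx⟩ := (DMod.homologyπ_eq_zero_iff (K := P) (i := L - 1) (by simp) z).1 hz
      apply DMod.iCycles_injective P L
      rw [← hx, Subsingleton.elim x 0, map_zero, map_zero]
    haveI : Module.Projective B (P.homology L) :=
      Module.Projective.of_equiv ((LinearEquiv.ofBijective cyc hcyc).symm ≪≫ₗ LinearEquiv.ofBijective _ hhom)
    let i : P.homology L ≅ (ModuleCat.extendScalars.{u, u, u} φ).obj (C.homology L) :=
      (DBaseChange.hdEquiv P L).symm ≪≫ (DMod.HH L).mapIso e ≪≫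
        (DBaseChange.hdEquiv ((bcCx φ).obj C) L ≪≫ DBaseChange.homologyExtIso φ hφ.flat C L)
    have hp := Module.Projective.of_equiv i.toLinearEquiv
    algebraize [φ]
    haveI : Module.Projective B (TensorProduct A B (C.homology L)) := hp
    haveI : Module.Flat B (TensorProduct A B (C.homology L)) := Module.Flat.of_projective
    exact Module.Flat.of_flat_tensorProduct A (C.homology L) B
  haveI : Module.Projective A (C.homology L) := Module.Flat.projective_of_finitePresentation
  obtain ⟨X, ⟨eX⟩⟩ := DerivedCategory.exists_iso_singleFunctor_obj_of_isGE_of_isLE (DRing.toD C) L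
  let eH : X ≅ C.homology L :=
    ((DerivedCategory.singleFunctorCompHomologyFunctorIso (ModuleCat.{u} A) L).app X).symm ≪≫
      (DMod.HH L).mapIso eX.symm ≪≫ DBaseChange.hdEquiv C L
  refine ⟨(HomologicalComplex.single (ModuleCat.{u} A) (ComplexShape.up ℤ) L).obj X,
    Tm.mono (c := L) (d := L) (n := M * N) ⟨fun i hi => HomologicalComplex.isZero_single_obj_X _ L _ i (by omega), fun i => ?_⟩
      ?_ ?_ (le_max_right _ _),
    ⟨((DerivedCategory.singleFunctorIsoCompQ (ModuleCat.{u} A) L).app X).symm ≪≫ eX.symm⟩⟩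
  · by_cases hi : i = L
    · subst hi
      let e' := (HomologicalComplex.singleObjXSelf (ComplexShape.up ℤ) L X ≪≫ eH).toLinearEquiv.symm
      exact ⟨Module.Projective.of_equiv e', hgenA.of_surjective e'.toLinearMap e'.surjective⟩
    · have := ModuleCat.subsingleton_of_isZero
        (HomologicalComplex.isZero_single_obj_X (ComplexShape.up ℤ) L X i hi)
      exact ⟨DMod.modClass_projective.subsingleton _, gen_of_subsingleton _⟩
  · have := le_max_left (N + 1) (M * N); push_cast; omega
  · have := le_max_left (N + 1) (M * N); omega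

/-- The bound. -/
def bound (N : ℕ) : ℕ → ℕ → ℕ
  | 0, M => max (N + 1) (M * N)
  | k + 1, M => bound N k (M * N + M) + M * N

theorem le_bound (N : ℕ) : ∀ k M, N + 1 ≤ bound N k M
  | 0, _ => le_max_left _ _
  | k + 1, _ => (le_bound N k _).trans (Nat.le_add_right _ _)

theorem main_step (hφ : φ.FaithfullyFlat) {N : ℕ} (hcov : IsNisCoverLen (Spec.map (CommRingCat.ofHom φ)) N) :
    ∀ (k : ℕ), k ≤ 2 * N + 1 → ∀ (M : ℕ) (C : DRing.Cx A) (a b : ℤ), DRing.VanishesOutside C a b →
      DRing.TermwiseFiniteProjective C → ∀ (P : DRing.Cx B), Tm P (-((N : ℤ) + 1)) N M →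
      (DRing.toD P ≅ DRing.toD ((bcCx φ).obj C)) → (DRing.toD C).IsLE (-((N : ℤ) + 1) + k) →
      Glob (DRing.toD C) (bound N k M) := by
  intro k
  induction k with
  | zero =>
    intro _ M C a b hC hCp P hP e hle
    exact base_case φ hφ hcov hC hCp hP e (by simpa using hle)
  | succ k ih =>
    intro hk M C a b hC hCp P hP e hle
    set t : ℤ := -((N : ℤ) + 1) + (k + 1 : ℕ) with htdef
    haveI := hle
    haveI := ((DMod.vanishesOutside_iff C a b).1 hC).2
    have hex : ∀ i, t < i → Subsingleton (C.homology i) := fun i hi =>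
      (DMod.subsingleton_HD_toD_iff C i).1 ((DMod.isLE_iff _ t).1 inferInstance i hi)
    haveI := (DMod.finite_projective_cycles t b hCp hex t le_rfl).1
    haveI : Module.Finite A (C.homology t) := DMod.finite_homology_of_cycles rfl
    have hgen : Gen A (M * N) (C.homology t) :=
      gen_of_cover (R := CommRingCat.of A) (B := CommRingCat.of B) (CommRingCat.ofHom φ) hcov (C.homology t)
        (gen_ext_homology φ hφ e hP t hle).1
    obtain ⟨s, hsurj⟩ := exists_free_hom C t hgen
    have hF := tm_freeSingle (A := A) t (M * N)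
    have hFle := DMod.isLE_toD hF.1
    obtain ⟨g, h, hT⟩ := DMod.exists_cone_triangle s
    have hcone : (DRing.toD (CochainComplex.mappingCone s)).IsLE (t - 1) := by
      refine (DMod.cone_isLE_iff _ hT t).2 ⟨fun i hi => ?_, ?_⟩
      · exact ⟨0, (DerivedCategory.isZero_of_isLE (DRing.toD (freeSingle A t (M * N))) t i hi).eq_of_src _ _,
          (DerivedCategory.isZero_of_isLE (DRing.toD C) t i hi).eq_of_src _ _⟩
      · show Epi ((DMod.HH t).map (DerivedCategory.Q.map s))
        have : Epi (HomologicalComplex.homologyMap s t) := (ModuleCat.epi_iff_surjective _).2 hsurj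
        have hn := (DerivedCategory.homologyFunctorFactors (ModuleCat.{u} A) t).hom.naturality s
        have : Epi ((DerivedCategory.Q ⋙ DMod.HH t).map s) := by
          rw [← Category.comp_id ((DerivedCategory.Q ⋙ DMod.HH t).map s),
            ← (DerivedCategory.homologyFunctorFactors (ModuleCat.{u} A) t).hom_inv_id_app C,
            ← Category.assoc, hn, Category.assoc]
          exact epi_comp' (inferInstance : Epi ((DerivedCategory.homologyFunctorFactors (ModuleCat.{u} A) t).hom.app _))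
            (epi_comp' this (inferInstance : Epi ((DerivedCategory.homologyFunctorFactors (ModuleCat.{u} A) t).inv.app C)))
        exact this
    -- the comparison over `B`
    have hFB := tm_ext φ hF
    haveI := hFB.kproj
    obtain ⟨s', hs'⟩ := DMod.exists_map_eq (DerivedCategory.Q.map ((bcCx φ).map s) ≫ e.inv)
    obtain ⟨g₁, h₁, hT₁⟩ := DMod.exists_cone_triangle s'
    obtain ⟨g₂, h₂, hT₂⟩ := DMod.exists_cone_triangle ((bcCx φ).map s)
    let eT := isoTriangleOfIso₁₂ (Triangle.mk (DerivedCategory.Q.map s') g₁ h₁)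
      (Triangle.mk (DerivedCategory.Q.map ((bcCx φ).map s)) g₂ h₂) hT₁ hT₂ (Iso.refl _) e
      (show DerivedCategory.Q.map s' ≫ e.hom = 𝟙 _ ≫ DerivedCategory.Q.map ((bcCx φ).map s) by
        rw [hs', Category.assoc, e.inv_hom_id, Category.comp_id, Category.id_comp])
    let e' : DRing.toD (CochainComplex.mappingCone s') ≅
        DRing.toD ((bcCx φ).obj (CochainComplex.mappingCone s)) :=
      Triangle.π₃.mapIso eT ≪≫ DerivedCategory.Q.mapIso
        (CochainComplex.mappingCone.mapHomologicalComplexIso s (ModuleCat.extendScalars.{u, u, u} φ)).symm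
    have hP' : Tm (CochainComplex.mappingCone s') (-((N : ℤ) + 1)) N (M * N + M) :=
      Tm.cone s' hFB hP _ _ (by omega) le_rfl (by omega) le_rfl
    have hC' := DMod.cone_vanishesOutside s hF.1 hC (min (t - 1) a) (max t b) (min_le_left _ _) (min_le_right _ _)
      (by have := le_max_left t b; omega) (le_max_right _ _)
    have hCp' : DRing.TermwiseFiniteProjective (CochainComplex.mappingCone s) := fun i =>
      DMod.cone_mem DMod.modClass_finiteProjective s (fun j => hF.finiteProjective j) hCp i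
    have hrec := ih (by omega) (M * N + M) _ _ _ hC' hCp' _ hP' e' (by
      have : t - 1 = -((N : ℤ) + 1) + k := by omega
      exact this ▸ hcone)
    have hb := le_bound N k (M * N + M)
    exact glob_of_cone (by omega) (by omega) s hrec

end Induction

theorem main : ∃ F : ℕ → ℕ, ∀ (R : Type u) [CommRing R] (E : DRing.Cx R) (a b : ℤ),
    DRing.VanishesOutside E a b → DRing.TermwiseFiniteProjective E →
    ∀ N : ℕ, W4c5algebraiztannaka.LocSize E N → W4c5algebraiztannaka.GlobSize R (DRing.toD E) (F N) := by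
  refine ⟨fun N => bound N (2 * N + 1) N, fun R _ E a b hE hEp N ⟨B, _, φ, hcov, P, ⟨hPv, hP⟩, ⟨e⟩⟩ => ?_⟩
  have hφ : φ.FaithfullyFlat :=
    faithfullyFlat_of_cover (R := CommRingCat.of R) (B := CommRingCat.of B) (CommRingCat.ofHom φ) hcov
  have hPT : Tm P (-((N : ℤ) + 1)) N N :=
    Tm.mono (c := -(N : ℤ)) (d := N) (n := N) ⟨hPv, fun i => ⟨(hP i).1, (hP i).2⟩⟩ (by omega) le_rfl le_rfl
  haveI := DMod.isLE_toD hPv
  have hle : (DRing.toD E).IsLE N :=
    DBaseChange.isLE_of_ext (DBaseChange.jointlyFF_of_faithfullyFlat φ hφ) E N fun _ =>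
      (DMod.tS B).isLE_of_iso e (N : ℤ)
  obtain ⟨Q, ⟨hQv, hQ⟩, hQe⟩ := main_step φ hφ hcov (2 * N + 1) le_rfl N E a b hE hEp P hPT e (by
    have : -((N : ℤ) + 1) + ((2 * N + 1 : ℕ) : ℤ) = N := by push_cast; omega
    exact this.symm ▸ hle)
  exact ⟨Q, ⟨hQv, hQ⟩, hQe⟩

end Groth.Agent.GlobSize27
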